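import Mathlib
/-!
Nonvanishing of Hom out of a finitely presented module.
-/
universe u v w
open TensorProduct

namespace Groth.Agent.HomNZ

/-- over a local ring whose maximal ideal is nil, a nonzero finitely presented module has a nonzero
functional -/
theorem exists_dual_ne_zero {C : Type u} [CommRing C] [IsLocalRing C]
    (hnil : ∀ c ∈ IsLocalRing.maximalIdeal C, IsNilpotent c)
    (M : Type v) [AddCommGroup M] [Module C M] [Module.FinitePresentation C M] [Nontrivial M] :
    ∃ φ : M →ₗ[C] C, φ ≠ 0 := by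
  classical
  have hex : ∃ n, ∃ π : (Fin n → C) →ₗ[C] M, Function.Surjective π := by
    obtain ⟨n, π, hπ⟩ := Module.Finite.exists_fin' C M
    exact ⟨n, π, hπ⟩
  obtain ⟨π, hπ⟩ := Nat.find_spec hex
  have hker : ∀ v : Fin (Nat.find hex) → C, π v = 0 → ∀ i, v i ∈ IsLocalRing.maximalIdeal C := by
    intro v hv i
    by_contra hu
    rw [IsLocalRing.mem_maximalIdeal, mem_nonunits_iff, not_not] at hu
    obtain ⟨m, hm⟩ : ∃ m, Nat.find hex = m + 1 :=
      Nat.exists_eq_succ_of_ne_zero (fun h => by have := i.2; omega)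
    have hspan : Submodule.span C (Set.range fun j : {j // j ≠ i} => π (Pi.single j.1 1)) = ⊤ := by
      rw [eq_top_iff]
      rintro z -
      obtain ⟨w, rfl⟩ := hπ z
      let w' := w - (w i * (hu.unit⁻¹ : Cˣ)) • v
      have hw' : π w' = π w := by simp [w', hv]
      rw [← hw', pi_eq_sum_univ w', map_sum]
      refine Submodule.sum_mem _ fun j _ => ?_
      rw [map_smul]
      by_cases hj : j = i
      · subst hj
        have : w' j = 0 := by
          simp only [w', Pi.sub_apply, Pi.smul_apply, smul_eq_mul, mul_assoc, IsUnit.val_inv_mul, mul_one, sub_self]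
        simp [this]
      · refine Submodule.smul_mem _ _ (Submodule.subset_span ⟨⟨j, hj⟩, ?_⟩)
        change π (Pi.single j 1) = _
        refine congrArg π (funext fun k => ?_)
        simp [Pi.single_apply, eq_comm]
    let e : Fin m ≃ {j : Fin (Nat.find hex) // j ≠ i} := (Fintype.equivFinOfCardEq (by
      simp [hm])).symm
    have hsurj : ∃ π' : (Fin m → C) →ₗ[C] M, Function.Surjective π' := by
      refine ⟨Fintype.linearCombination C fun j => π (Pi.single (e j).1 1), ?_⟩
      rw [← LinearMap.range_eq_top, Fintype.range_linearCombination]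
      rw [← hspan]
      congr 1
      exact e.surjective.range_comp fun j : {j // j ≠ i} => π (Pi.single j.1 1)
    exact Nat.find_min hex (by omega) hsurj
  obtain ⟨G, hG⟩ := Module.FinitePresentation.fg_ker π hπ
  let J : Ideal C := Ideal.span (Set.range fun p : G × Fin (Nat.find hex) => p.1.1 p.2)
  have hJfg : J.FG := ⟨(Finset.univ).image fun p : G × Fin (Nat.find hex) => p.1.1 p.2, by simp [J]⟩
  have hJle : J ≤ nilradical C := by
    rw [Ideal.span_le]
    rintro _ ⟨⟨g, i⟩, rfl⟩
    refine hnil _ (hker _ ?_ i)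
    exact LinearMap.mem_ker.1 (hG ▸ Submodule.subset_span g.2)
  obtain ⟨k, hk⟩ := Ideal.exists_pow_le_of_le_radical_of_fg (I := J) (J := ⊥) hJle hJfg
  obtain ⟨c, hc0, hc⟩ : ∃ c : C, c ≠ 0 ∧ ∀ x ∈ J, x * c = 0 := by
    have hex2 : ∃ k, J ^ k = ⊥ := ⟨k, le_bot_iff.1 hk⟩
    have h0 : Nat.find hex2 ≠ 0 := fun h => by
      have := Nat.find_spec hex2
      rw [h, pow_zero, Ideal.one_eq_top] at this
      exact top_ne_bot this
    obtain ⟨c, hcm, hc0⟩ := Submodule.exists_mem_ne_zero_of_ne_bot
      (Nat.find_min hex2 (show Nat.find hex2 - 1 < Nat.find hex2 by omega))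
    refine ⟨c, hc0, fun x hx => ?_⟩
    have h := Ideal.mul_mem_mul hx hcm
    rw [← pow_succ', Nat.sub_add_cancel (Nat.one_le_iff_ne_zero.2 h0), Nat.find_spec hex2] at h
    exact h
  obtain ⟨i0⟩ : Nonempty (Fin (Nat.find hex)) := by
    by_contra h
    rw [not_nonempty_iff] at h
    exact not_subsingleton M hπ.subsingleton
  let ψ : (Fin (Nat.find hex) → C) →ₗ[C] C := c • LinearMap.proj i0
  have hle : LinearMap.ker π ≤ LinearMap.ker ψ := by
    rw [← hG, Submodule.span_le]
    intro g hg
    simp only [SetLike.mem_coe, LinearMap.mem_ker, ψ, LinearMap.smul_apply, LinearMap.proj_apply, smul_eq_mul]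
    rw [mul_comm]
    exact hc _ (Ideal.subset_span ⟨(⟨g, hg⟩, i0), rfl⟩)
  refine ⟨(LinearMap.ker π).liftQ ψ hle ∘ₗ (π.quotKerEquivOfSurjective hπ).symm.toLinearMap, fun h => hc0 ?_⟩
  have := LinearMap.congr_fun h (π (Pi.single i0 1))
  rw [LinearMap.comp_apply, LinearEquiv.coe_coe] at this
  rw [show (π.quotKerEquivOfSurjective hπ).symm (π (Pi.single i0 1)) = Submodule.Quotient.mk (Pi.single i0 1) from
    (π.quotKerEquivOfSurjective hπ).symm_apply_eq.2 (LinearMap.quotKerEquivOfSurjective_apply_mk π hπ _).symm] at this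
  simpa [ψ] using this

/-- nonvanishing of `Hom` out of a finitely presented module -/
theorem nontrivial_hom (A : Type u) [CommRing A] (M : Type v) [AddCommGroup M] [Module A M]
    [Module.FinitePresentation A M] (N : Type w) [AddCommGroup N] [Module A N] (x : N)
    (q : Ideal A) [q.IsPrime] (hq : q ∈ ((⊥ : Submodule A N).colon {x}).minimalPrimes)
    (h : Module.support A N ⊆ Module.support A M) : Nontrivial (M →ₗ[A] N) := by
  classical
  let Aq := Localization.AtPrime q
  let lN := LocalizedModule.mkLinearMap q.primeCompl N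
  let Mq := LocalizedModule q.primeCompl M
  haveI : Module.FinitePresentation Aq Mq := inferInstance
  let z : LocalizedModule q.primeCompl N := lN x
  let K : Ideal Aq := LinearMap.ker (LinearMap.toSpanSingleton Aq _ z)
  have hcolon : ∀ a : A, a • x = 0 ↔ a ∈ (⊥ : Submodule A N).colon {x} := by simp
  have hz : ∀ a : A, algebraMap A Aq a ∈ K ↔ ∃ s : q.primeCompl, (s : A) * a ∈ (⊥ : Submodule A N).colon {x} := by
    intro a
    simp only [K, LinearMap.mem_ker, LinearMap.toSpanSingleton_apply, z, IsScalarTower.algebraMap_smul,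
      ← map_smul, IsLocalizedModule.eq_zero_iff q.primeCompl, ← hcolon, mul_smul]
    rfl
  have hKne : K ≠ ⊤ := by
    rw [Ideal.ne_top_iff_one, ← map_one (algebraMap A Aq), hz]
    rintro ⟨s, hs⟩
    exact s.2 (hq.1.2 (by simpa using hs))
  haveI : Nontrivial (Aq ⧸ K) := Ideal.Quotient.nontrivial_iff.2 hKne
  haveI : IsLocalRing (Aq ⧸ K) := IsLocalRing.of_surjective' (Ideal.Quotient.mk K) Ideal.Quotient.mk_surjective
  have hnil : ∀ c ∈ IsLocalRing.maximalIdeal (Aq ⧸ K), IsNilpotent c := by
    intro c hc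
    obtain ⟨y, rfl⟩ := Ideal.Quotient.mk_surjective c
    obtain ⟨a, s, rfl⟩ := IsLocalization.exists_mk'_eq q.primeCompl y
    have haq : a ∈ q := by
      by_contra ha
      refine hc (IsUnit.map (Ideal.Quotient.mk K) ?_)
      rw [IsLocalization.AtPrime.isUnit_mk'_iff Aq q]
      exact ha
    obtain ⟨s', n, hs'⟩ : ∃ s' ∈ q.primeCompl, ∃ n : ℕ, (s' : A) * a ^ n ∈ (⊥ : Submodule A N).colon {x} := by
      by_contra hno
      push Not at hno
      let T : Submonoid A := q.primeCompl ⊔ Submonoid.powers a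
      have hdisj : Disjoint (((⊥ : Submodule A N).colon {x} : Ideal A) : Set A) T := by
        rw [Set.disjoint_left]
        intro r hr hrT
        obtain ⟨s, hs, _, ⟨n, rfl⟩, rfl⟩ := Submonoid.mem_sup.1 hrT
        exact hno s hs n hr
      obtain ⟨p, hp, hle, hpT⟩ := Ideal.exists_le_prime_disjoint _ T hdisj
      have hpq : p ≤ q := fun r hr => by_contra fun hrq =>
        Set.disjoint_left.1 hpT hr (Submonoid.mem_sup_left hrq)
      have := hq.2 ⟨hp, hle⟩ hpq haq
      exact Set.disjoint_left.1 hpT this (Submonoid.mem_sup_right (Submonoid.mem_powers a))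
    refine ⟨hs'.choose, ?_⟩
    rw [← map_pow, Ideal.Quotient.eq_zero_iff_mem]
    rw [IsLocalization.mk'_eq_mul_mk'_one, mul_pow, ← map_pow]
    exact K.mul_mem_right _ ((hz _).2 ⟨⟨s', n⟩, hs'.choose_spec⟩)
  haveI : Nontrivial Mq := by
    have hsupp : (⟨q, ‹_›⟩ : PrimeSpectrum A) ∈ Module.support A N := by
      rw [Module.mem_support_iff_exists_annihilator]
      refine ⟨x, fun r hr => hq.1.2 ?_⟩
      simpa [Submodule.mem_annihilator_span_singleton] using hr
    exact Module.mem_support_iff.1 (h hsupp)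
  haveI : Nontrivial ((Aq ⧸ K) ⊗[Aq] Mq) := by
    rw [← not_subsingleton_iff_nontrivial]
    intro hsub
    have e := TensorProduct.quotTensorEquivQuotSMul Mq K
    have : Subsingleton (Mq ⧸ K • (⊤ : Submodule Aq Mq)) := e.symm.toEquiv.subsingleton
    rw [Submodule.Quotient.subsingleton_iff] at this
    have htop : (⊤ : Submodule Aq Mq) = ⊥ :=
      Submodule.eq_bot_of_le_smul_of_le_jacobson_bot K ⊤ Module.Finite.fg_top this.ge
        ((IsLocalRing.le_maximalIdeal hKne).trans (IsLocalRing.maximalIdeal_le_jacobson ⊥))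
    refine not_subsingleton Mq ⟨fun a b => sub_eq_zero.1 ?_⟩
    have hmem : a - b ∈ (⊤ : Submodule Aq Mq) := trivial
    rwa [htop, Submodule.mem_bot] at hmem
  obtain ⟨φ, hφ⟩ := exists_dual_ne_zero hnil ((Aq ⧸ K) ⊗[Aq] Mq)
  let ι : (Aq ⧸ K) →ₗ[Aq] LocalizedModule q.primeCompl N := K.liftQ (LinearMap.toSpanSingleton Aq _ z) le_rfl
  have hι : Function.Injective ι := by
    rw [← LinearMap.ker_eq_bot]; exact Submodule.ker_liftQ_eq_bot _ _ _ le_rfl
  let g : M →ₗ[A] LocalizedModule q.primeCompl N :=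
    ((ι ∘ₗ φ.restrictScalars Aq ∘ₗ TensorProduct.mk Aq (Aq ⧸ K) Mq 1).restrictScalars A) ∘ₗ
      LocalizedModule.mkLinearMap q.primeCompl M
  obtain ⟨f, s, hf⟩ := Module.FinitePresentation.exists_lift_of_isLocalizedModule q.primeCompl lN g
  refine ⟨⟨f, 0, fun hf0 => hφ ?_⟩⟩
  have hg : g = 0 := by
    ext m
    have h1 := LinearMap.congr_fun hf m
    rw [hf0, LinearMap.comp_zero, LinearMap.zero_apply, LinearMap.smul_apply] at h1
    exact IsLocalizedModule.smul_injective lN s (h1.symm.trans (smul_zero s).symm)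
  have h2 : ι ∘ₗ φ.restrictScalars Aq ∘ₗ TensorProduct.mk Aq (Aq ⧸ K) Mq 1 = 0 := by
    refine LinearMap.restrictScalars_injective A ?_
    exact IsLocalizedModule.ext q.primeCompl (LocalizedModule.mkLinearMap q.primeCompl M)
      (IsLocalizedModule.map_units lN) hg
  refine LinearMap.ext fun t => ?_
  induction t using TensorProduct.induction_on with
  | zero => simp
  | add a b ha hb => simp [ha, hb]
  | tmul c m =>
    have h3 : φ ((1 : Aq ⧸ K) ⊗ₜ m) = 0 := hι (by
      rw [map_zero]; exact LinearMap.congr_fun h2 m)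
    rw [show c ⊗ₜ[Aq] m = c • ((1 : Aq ⧸ K) ⊗ₜ[Aq] m) by rw [TensorProduct.smul_tmul', smul_eq_mul, mul_one],
      map_smul, h3, smul_zero, LinearMap.zero_apply]

end Groth.Agent.HomNZ
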